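import Groth.Agent.L16.SerreLemma.Semiab
import Groth.Agent.L19.SpecSub.SabTorsion
import Groth.Agent.L26.AV.DimQF
import Groth.Agent.L08.Cube.FiniteSurj
import Groth.Agent.L08.CentralExtTorus
import Groth.Prelude.Def_EndRing
import Mathlib.Algebra.Polynomial.AlgebraMap
import Mathlib.RingTheory.Int.Basic

/-!
# Serre's lemma: automorphisms of finite order trivial on torsion
-/

set_option autoImplicit false
set_option backward.isDefEq.respectTransparency.types false
set_option linter.style.haveILetI false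
set_option linter.unusedSectionVars false

universe u

open CategoryTheory CategoryTheory.Limits MonoidalCategory CartesianMonoidalCategory MonObj AlgebraicGeometry

noncomputable section

namespace Groth.L16.SerreLemma

variable {k : Type u} [Field k] {G : Over (Spec (CommRingCat.of k))} [GrpObj G] [IsCommMonObj G]

/-- `U` fixes the `n`-torsion points. -/
def Cong (U : EndAV.End G) (n : ℕ) : Prop :=
  ∀ (T : Over (Spec (CommRingCat.of k))) (x : T ⟶ G), x ^ n = 1 → x ≫ U.toHom = x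

theorem Cong.pow {U : EndAV.End G} {n : ℕ} (h : Cong U n) (i : ℕ) : Cong (U ^ i) n := by
  intro T x hx
  induction i with
  | zero => rw [pow_zero, EndAV.End.toHom_one, Category.comp_id]
  | succ i ih => rw [EndAV.End.toHom_pow_succ, reassoc_of% ih, h T x hx]

theorem Cong.of_dvd {U : EndAV.End G} {n m : ℕ} (h : Cong U n) (hm : m ∣ n) : Cong U m := by
  obtain ⟨c, rfl⟩ := hm
  exact fun T x hx => h T x (by rw [pow_mul, hx, one_pow])

theorem comp_nsmul {T : Over (Spec (CommRingCat.of k))} (x : T ⟶ G) (n : ℕ) (X : EndAV.End G) :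
    x ≫ (n • X).toHom = (x ^ n) ≫ X.toHom := by
  rw [EndAV.End.toHom_nsmul, MonObj.comp_pow, MonObj.pow_comp]

theorem comp_natCast {T : Over (Spec (CommRingCat.of k))} (x : T ⟶ G) (n : ℕ) :
    x ≫ (n : EndAV.End G).toHom = x ^ n := by
  rw [EndAV.End.toHom_natCast, MonObj.comp_pow, Category.comp_id]

variable [Smooth G.hom] [QuasiCompact G.hom]

theorem pow_cover (hS : Groth.L19.SpecSub.IsSemiab G) (n : ℕ) (hn : 0 < n) :
    Surjective ((𝟙 G : G ⟶ G) ^ n).left ∧ Flat ((𝟙 G : G ⟶ G) ^ n).left ∧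
      LocallyOfFinitePresentation ((𝟙 G : G ⟶ G) ^ n).left := by
  haveI := hS.surjective_pow n hn
  haveI : IsMonHom ((𝟙 G : G ⟶ G) ^ n) := Groth.Agent.AV.Isogeny.isMonHom_pow n
  haveI : IsReduced G.left := Groth.Agent.AV.isReduced_of_smooth_field G.hom
  exact ⟨inferInstance, Groth.L08.FlatHom.flat_of_surjective G G _, Groth.L19.SpecSub.lfp_hom_field _⟩

/-- The endomorphisms have no torsion. -/
theorem eq_zero_of_nsmul (hS : Groth.L19.SpecSub.IsSemiab G) {n : ℕ} (hn : 0 < n) {Y : EndAV.End G}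
    (h : n • Y = 0) : Y = 0 := by
  obtain ⟨_, _, _⟩ := pow_cover hS n hn
  haveI : Epi ((𝟙 G : G ⟶ G) ^ n) := Groth.L08.GQuot.epi_of_cover _
  refine EndAV.End.ext ?_
  rw [← cancel_epi ((𝟙 G : G ⟶ G) ^ n), MonObj.pow_comp, Category.id_comp, EndAV.End.toHom_zero, MonObj.comp_one,
    ← EndAV.End.toHom_nsmul, h, EndAV.End.toHom_zero]

/-- An endomorphism fixing the `n`-torsion is `1` plus a multiple of `n`. -/
theorem exists_eq_one_add (hS : Groth.L19.SpecSub.IsSemiab G) {n : ℕ} (hn : 0 < n) {U : EndAV.End G}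
    (h : Cong U n) : ∃ X : EndAV.End G, U = 1 + n • X := by
  obtain ⟨_, _, _⟩ := pow_cover hS n hn
  let c : G ⟶ G := (𝟙 G : G ⟶ G) ^ n
  haveI : IsMonHom c := Groth.Agent.AV.Isogeny.isMonHom_pow n
  let D : EndAV.End G := U - 1
  have hD : ∀ (T : Over (Spec (CommRingCat.of k))) (x : T ⟶ G), x ^ n = 1 → x ≫ D.toHom = 1 := fun T x hx => by
    rw [EndAV.End.toHom_sub, EndAV.End.toHom_one, GrpObj.comp_div, h T x hx, Category.comp_id, div_self']
  obtain ⟨g, hg⟩ := Groth.L08.AffHull.exists_desc_cover c D.toHom (fun {T} a b hab => by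
    simp only [c, MonObj.comp_pow, Category.comp_id] at hab
    rw [← div_eq_one, ← GrpObj.div_comp]
    exact hD T _ (by rw [div_pow, hab, div_self']))
  haveI : IsMonHom g := by
    obtain ⟨_, _⟩ := L13.CentralExtTorus.flat_surjective_tensorHom c c
    haveI := Groth.L08.CentralExtTorus.lfp_tensorHom c c
    haveI : Epi c := Groth.L08.GQuot.epi_of_cover c
    haveI : Epi (c ⊗ₘ c) := Groth.L08.GQuot.epi_of_cover _
    haveI : IsMonHom (c ≫ g) := by rw [hg]; infer_instance
    refine ⟨?_, ?_⟩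
    · calc η[G] ≫ g = (η[G] ≫ c) ≫ g := by rw [IsMonHom.one_hom c]
        _ = η[G] := by rw [Category.assoc, IsMonHom.one_hom (c ≫ g)]
    · rw [← cancel_epi (c ⊗ₘ c), ← Category.assoc, ← IsMonHom.mul_hom c, Category.assoc, IsMonHom.mul_hom (c ≫ g),
        tensorHom_comp_tensorHom_assoc]
  refine ⟨EndAV.End.of g, EndAV.End.ext ?_⟩
  rw [EndAV.End.toHom_add, EndAV.End.toHom_one, EndAV.End.toHom_nsmul, EndAV.End.toHom_of]
  have hc : g ^ n = c ≫ g := by rw [MonObj.pow_comp, Category.id_comp]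
  rw [hc, hg, EndAV.End.toHom_sub, EndAV.End.toHom_one, mul_div_cancel]

variable [ConnectedSpace ↥G.left]

/-- An endomorphism with no `ℓ`-torsion in its kernel is an epimorphism. -/
theorem eq_zero_of_mul_eq_zero (hS : Groth.L19.SpecSub.IsSemiab G) {ℓ : ℕ} (hℓ : 2 ≤ ℓ) {φ h : EndAV.End G}
    (hφ : ∀ (T : Over (Spec (CommRingCat.of k))) (x : T ⟶ G), x ^ ℓ = 1 → x ≫ φ.toHom = 1 → x = 1)
    (h0 : h * φ = 0) : h = 0 := by
  haveI := Groth.L08.AbelianGrp.isSeparated G
  haveI : IsMonHom φ.toHom := EndAV.Hom.isMonHom_toHom φ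
  obtain ⟨E, gE, i, hi, hic, -, sq⟩ := Groth.L08.AbelianGrp.exists_kernel φ.toHom
  haveI := hi; haveI := hic
  haveI : Mono i := Over.mono_of_mono_left i
  haveI : IsCommMonObj E := Groth.L15.TorsLift.isCommMonObj_of_mono i
  haveI : IsLocallyNoetherian G.left := LocallyOfFiniteType.isLocallyNoetherian G.hom
  haveI : IsFinite E.hom := hS.isFinite_of_mono_pow i ℓ hℓ ⟨fun {T} a b hab => by
    simp only [MonObj.comp_pow, Category.comp_id] at hab
    rw [← div_eq_one, ← cancel_mono i, MonObj.one_comp]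
    refine hφ T _ ?_ ?_
    · rw [← MonObj.pow_comp, div_pow, hab, div_self', MonObj.one_comp]
    · rw [Category.assoc, sq.w, ← Category.assoc, comp_toUnit, ← Hom.one_def]⟩
  haveI : IsFinite φ.toHom.left := Groth.L18.GrpHomFinite.isFinite_of_kernel_finite φ.toHom i sq
  haveI : IsReduced G.left := Groth.Agent.AV.isReduced_of_smooth_field G.hom
  haveI : IrreducibleSpace G.left := Groth.L25.Component.irreducibleSpace G
  haveI : Surjective φ.toHom.left := by
    obtain ⟨d, -, hd⟩ := Groth.L08.GrpDim.exists_dim G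
    refine ⟨Groth.L08.Cube.surjective_of_closed_discrete_fibres φ.toHom.left φ.toHom.left.continuous
      φ.toHom.left.isClosedMap (fun x y hxy e =>
        Groth.L19.eq_of_specializes_of_isIntegralHom φ.toHom.left hxy e) ?_⟩
    rw [hd]
    exact fun he => ENat.natCast_ne_top d (WithBot.coe_inj.1 he)
  haveI : Flat φ.toHom.left := Groth.L08.FlatHom.flat_of_surjective G G φ.toHom
  haveI : LocallyOfFinitePresentation φ.toHom.left := Groth.L19.SpecSub.lfp_hom_field _
  haveI : Epi φ.toHom := Groth.L08.GQuot.epi_of_cover _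
  refine EndAV.End.ext ?_
  rw [← cancel_epi φ.toHom, ← EndAV.End.toHom_mul, h0, EndAV.End.toHom_zero, MonObj.comp_one]

section Algebra

open Polynomial

theorem exists_pow_one_add {R : Type} [CommRing R] (z : R) (q : ℕ) :
    ∃ S, (1 + z) ^ q = 1 + (q : R) * z + (q.choose 2 : R) * z ^ 2 + z ^ 3 * S := by
  induction q with
  | zero => exact ⟨0, by simp [Nat.choose]⟩
  | succ q ih =>
    obtain ⟨S, hS⟩ := ih
    refine ⟨S * (1 + z) + (q.choose 2 : R), ?_⟩
    rw [pow_succ, hS, Nat.choose_succ_succ' q 1, Nat.choose_one_right, Nat.cast_add, Nat.cast_add, Nat.cast_one]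
    ring

/-- The first case of the factorisation of `(1 + n X) ^ q - 1`. -/
theorem exists_factor (n q : ℕ) : ∃ S : ℤ[X],
    (1 + (n : ℤ[X]) * X) ^ q - 1 = (n : ℤ[X]) * (X * ((q : ℤ[X]) + (n : ℤ[X]) * S)) := by
  obtain ⟨S, hS⟩ := exists_pow_one_add ((n : ℤ[X]) * X) q
  exact ⟨(q.choose 2 : ℤ[X]) * X + (n : ℤ[X]) * X ^ 2 * S, by rw [hS]; ring⟩

/-- The second case, `n = q` an odd prime. -/
theorem exists_factor_odd {q : ℕ} (hq : Odd q) : ∃ S : ℤ[X],
    (1 + (q : ℤ[X]) * X) ^ q - 1 = ((q * q : ℕ) : ℤ[X]) * (X * (1 + (q : ℤ[X]) * S)) := by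
  obtain ⟨S, hS⟩ := exists_pow_one_add ((q : ℤ[X]) * X) q
  obtain ⟨m, hm⟩ : q ∣ q.choose 2 := by
    obtain ⟨c, rfl⟩ := hq
    exact ⟨c, by rw [Nat.choose_two_right, show 2 * c + 1 - 1 = c * 2 by omega, ← Nat.mul_assoc, Nat.mul_div_cancel _ two_pos]⟩
  exact ⟨(m : ℤ[X]) * X + X ^ 2 * S, by rw [hS, hm, Nat.cast_mul, Nat.cast_mul]; ring⟩

end Algebra

/-- The case of prime order. -/
theorem eq_one_of_prime (hS : Groth.L19.SpecSub.IsSemiab G) {n : ℕ} (hn : n = 4 ∨ (n.Prime ∧ Odd n))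
    {U : EndAV.End G} (hU : Cong U n) {q : ℕ} (hq : q.Prime) (hUq : U ^ q = 1) : U = 1 := by
  open Polynomial in
  have hn0 : 0 < n := by rcases hn with rfl | ⟨h, -⟩ <;> [omega; exact h.pos]
  obtain ⟨h, rfl⟩ := exists_eq_one_add hS hn0 hU
  suffices h = 0 by rw [this, smul_zero, add_zero]
  have key : ∀ (c : ℕ) (Φ : Polynomial ℤ), 0 < c →
      (1 + (n : Polynomial ℤ) * Polynomial.X) ^ q - 1 = (c : Polynomial ℤ) * (Polynomial.X * Φ) →
      h * Polynomial.aeval h Φ = 0 := by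
    intro c Φ hc e
    have e1 := congrArg (Polynomial.aeval h) e
    rw [map_sub, map_pow, map_add, map_one, map_mul, map_mul, map_mul, Polynomial.aeval_X, map_natCast, map_natCast,
      ← nsmul_eq_mul, hUq, sub_self, ← nsmul_eq_mul] at e1
    exact eq_zero_of_nsmul hS hc e1.symm
  have hmul : ∀ (m : ℕ) (S : Polynomial ℤ) (T : Over (Spec (CommRingCat.of k))) (x : T ⟶ G), x ^ m = 1 →
      x ≫ ((m : EndAV.End G) * Polynomial.aeval h S).toHom = 1 := fun m S T x hx => by
    rw [← nsmul_eq_mul, comp_nsmul, hx, MonObj.one_comp]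
  rcases hn with rfl | ⟨hnp, hodd⟩
  · rcases eq_or_ne q 2 with rfl | hq2
    · have e := key 8 (1 + ((2 : ℕ) : Polynomial ℤ) * Polynomial.X) (by omega) (by push_cast; ring)
      refine eq_zero_of_mul_eq_zero hS (ℓ := 2) le_rfl (fun T x hx hx' => ?_) e
      rwa [map_add, map_one, map_mul, map_natCast, EndAV.End.toHom_add, MonObj.comp_mul, EndAV.End.toHom_one,
        Category.comp_id, hmul 2 _ T x hx, _root_.mul_one] at hx'
    · obtain ⟨S, hS'⟩ := exists_factor 4 q
      refine eq_zero_of_mul_eq_zero hS (ℓ := 2) le_rfl (fun T x hx hx' => ?_) (key 4 _ (by omega) hS')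
      have hx4 : x ^ 4 = 1 := by rw [show (4 : ℕ) = 2 * 2 from rfl, pow_mul, hx, one_pow]
      rw [map_add, map_natCast, map_mul, map_natCast, EndAV.End.toHom_add, MonObj.comp_mul,
        hmul 4 _ T x hx4, _root_.mul_one, comp_natCast] at hx'
      have h2 := (pow_gcd_eq_one (a := x) (m := 2) (n := q)).2 ⟨hx, hx'⟩
      rwa [(Nat.coprime_primes Nat.prime_two hq).2 (Ne.symm hq2), pow_one] at h2
  · rcases eq_or_ne q n with rfl | hne
    · obtain ⟨S, hS'⟩ := exists_factor_odd hodd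
      refine eq_zero_of_mul_eq_zero hS (ℓ := q) hq.two_le (fun T x hx hx' => ?_)
        (key (q * q) _ (Nat.mul_pos hq.pos hq.pos) hS')
      rwa [map_add, map_one, map_mul, map_natCast, EndAV.End.toHom_add, MonObj.comp_mul, EndAV.End.toHom_one,
        Category.comp_id, hmul q _ T x hx, _root_.mul_one] at hx'
    · obtain ⟨S, hS'⟩ := exists_factor n q
      refine eq_zero_of_mul_eq_zero hS (ℓ := n) hnp.two_le (fun T x hx hx' => ?_) (key n _ hn0 hS')
      rw [map_add, map_natCast, map_mul, map_natCast, EndAV.End.toHom_add, MonObj.comp_mul,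
        hmul n _ T x hx, _root_.mul_one, comp_natCast] at hx'
      have h2 := (pow_gcd_eq_one (a := x) (m := n) (n := q)).2 ⟨hx, hx'⟩
      rwa [(Nat.coprime_primes hnp hq).2 (Ne.symm hne), pow_one] at h2

/-- An endomorphism of finite order fixing the `n`-torsion is trivial for `n ≥ 3`. -/
theorem eq_one_of_three_le (hS : Groth.L19.SpecSub.IsSemiab G) {n : ℕ} (hn : 3 ≤ n) {U : EndAV.End G}
    (hU : Cong U n) : ∀ N : ℕ, 0 < N → U ^ N = 1 → U = 1 := by
  obtain ⟨m, hmn, hm⟩ : ∃ m, m ∣ n ∧ (m = 4 ∨ (m.Prime ∧ Odd m)) := by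
    rcases Nat.four_dvd_or_exists_odd_prime_and_dvd_of_two_lt (n := n) (by omega) with h | ⟨p, hp, hd, ho⟩
    · exact ⟨4, h, Or.inl rfl⟩
    · exact ⟨p, hd, Or.inr ⟨hp, ho⟩⟩
  intro N
  induction N using Nat.strong_induction_on with
  | _ N ih =>
    intro hN e
    rcases eq_or_ne N 1 with rfl | h1
    · rwa [pow_one] at e
    · obtain ⟨q, hq, hd⟩ := Nat.exists_prime_and_dvd h1
      refine ih (N / q) (Nat.div_lt_self hN hq.one_lt) (Nat.div_pos (Nat.le_of_dvd hN hd) hq.pos) ?_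
      refine eq_one_of_prime hS hm ((hU.of_dvd hmn).pow _) hq ?_
      rw [← pow_mul, Nat.div_mul_cancel hd, e]

/-- For `n = 2` the square is trivial. -/
theorem sq_eq_one_of_two (hS : Groth.L19.SpecSub.IsSemiab G) {U : EndAV.End G} (hU : Cong U 2)
    {N : ℕ} (hN : 0 < N) (e : U ^ N = 1) : U ^ 2 = 1 := by
  obtain ⟨h, rfl⟩ := exists_eq_one_add hS two_pos hU
  refine eq_one_of_three_le hS (n := 4) (by omega) (fun T x hx => ?_) N hN ?_
  · rw [show (1 + 2 • h) ^ 2 = 1 + 4 • (h + h * h) by noncomm_ring, EndAV.End.toHom_add, MonObj.comp_mul,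
      EndAV.End.toHom_one, Category.comp_id, comp_nsmul, hx, MonObj.one_comp, _root_.mul_one]
  · rw [← pow_mul, mul_comm, pow_mul, e, one_pow]

end Groth.L16.SerreLemma
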