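import Groth.Agent.L26.Neron.SplitSemistable
import Groth.Agent.L19.SpecSub.SemiabField
import Groth.Agent.L15.TorsLift.Basic
import Groth.Prelude.Def_SGA7IX

/-!
A smooth connected commutative group whose geometric fibre has no copy of the additive group is semiabelian.
-/

set_option autoImplicit false
set_option backward.isDefEq.respectTransparency.types false
set_option linter.style.haveILetI false

universe u

open CategoryTheory CategoryTheory.Limits MonoidalCategory CartesianMonoidalCategory MonObj AlgebraicGeometry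

noncomputable section

namespace Groth.L16.SerreLemma

variable {k : Type u} [Field k]

/-- No copy of the additive group at one geometric point gives none over the algebraic closure. -/
theorem noGa_gbc (G : Over (Spec (CommRingCat.of k))) [GrpObj G] (hG : SGA7.FibresUnipotentRankZero G)
    (j : Red.Ga (Spec (CommRingCat.of (AlgebraicClosure k))) ⟶ Groth.L19.SpecSub.gbc G) (hj : IsMonHom j)
    (hc : IsClosedImmersion j.left) : False := by
  haveI := hj; haveI := hc
  let s : ↥(Spec (CommRingCat.of k)) := IsLocalRing.closedPoint k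
  let Ω := AlgebraicClosure ((Spec (CommRingCat.of k)).residueField s)
  let θ : Spec (CommRingCat.of Ω) ⟶ Spec (CommRingCat.of k) := Red.geomPt s
  obtain ⟨φ, hφ⟩ : ∃ φ : k →+* Ω, Spec.map (CommRingCat.ofHom φ) = θ :=
    ⟨(Spec.preimage θ).hom, Spec.map_preimage θ⟩
  letI : Algebra k Ω := φ.toAlgebra
  let τ : AlgebraicClosure k →ₐ[k] Ω := IsAlgClosed.lift
  let σ : Spec (CommRingCat.of Ω) ⟶ Spec (CommRingCat.of (AlgebraicClosure k)) :=
    Spec.map (CommRingCat.ofHom τ.toRingHom)
  have hσ : σ ≫ AbVar.ext k (AlgebraicClosure k) = θ := by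
    rw [← hφ]
    show Spec.map _ ≫ Spec.map _ = _
    rw [← Spec.map_comp, ← CommRingCat.ofHom_comp]
    exact congrArg (fun ψ => Spec.map (CommRingCat.ofHom ψ)) (RingHom.ext fun x => τ.commutes x)
  obtain ⟨c₂, hc₂, hc₂', -⟩ := Groth.L08.SmallNorm.exists_comparison_gen σ (AbVar.ext k (AlgebraicClosure k)) θ hσ G
  obtain ⟨c₁, hc₁, hc₁', -⟩ := Groth.L08.SmallNorm.exists_comparison_gen σ
    (Limits.IsTerminal.from specULiftZIsTerminal (Spec (CommRingCat.of (AlgebraicClosure k))))
    (Limits.IsTerminal.from specULiftZIsTerminal (Spec (CommRingCat.of Ω))) (specULiftZIsTerminal.hom_ext _ _) Red.GaZ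
  let F := Over.pullback σ
  haveI : IsClosedImmersion (F.map j).left :=
    MorphismProperty.of_isPullback (P := @IsClosedImmersion) (Groth.L08.SmallNorm.isPullback_bc_map' σ j).flip hc
  haveI : IsMonHom (F.map j) := inferInstance
  haveI : IsMonHom (asIso c₁).hom := hc₁'
  haveI : IsMonHom (inv c₁) := inferInstanceAs (IsMonHom (asIso c₁).inv)
  haveI := hc₂'
  refine hG s (inv c₁ ≫ F.map j ≫ c₂) inferInstance ?_
  haveI : IsIso (inv c₁).left := inferInstanceAs (IsIso ((Over.forget _).map (inv c₁)))
  haveI : IsIso c₂.left := inferInstanceAs (IsIso ((Over.forget _).map c₂))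
  show IsClosedImmersion ((inv c₁).left ≫ (F.map j).left ≫ c₂.left)
  infer_instance

/-- Without copies of the additive group a smooth connected commutative group is semiabelian. -/
theorem isSemiab_alg [IsAlgClosed k] (G : Over (Spec (CommRingCat.of k))) [GrpObj G] [IsCommMonObj G] [Smooth G.hom]
    [QuasiCompact G.hom] [ConnectedSpace ↥G.left]
    (hG : ∀ j : Red.Ga (Spec (CommRingCat.of k)) ⟶ G, IsMonHom j → IsClosedImmersion j.left → False) :
    Groth.L19.SpecSub.IsSemiab G := by
  haveI := Groth.L08.AbelianGrp.isSeparated G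
  obtain ⟨L, gL, l, A, gA, α, hl', hlc, hLs, hLc, hLa, -, hα, hαs, hαf, hαl, hker, hAp, hAs, hAc⟩ :=
    Groth.L08.Chev.exists_chevalley (G := G)
  haveI := hl'; haveI := hlc; haveI := hLs; haveI := hLc; haveI := hLa
  haveI : Mono l := Over.mono_of_mono_left l
  haveI : IsCommMonObj L := Groth.L15.TorsLift.isCommMonObj_of_mono l
  have hT : Red.IsTorus L := by
    refine Groth.L19.SpecSub.isTorus_of_noUnip L fun U _ u _ huc hUs hUc hns => ?_
    by_contra htriv
    haveI := hUc; haveI := hUs; haveI := huc
    haveI : IsAffine U.left := isAffine_of_isAffineHom u.left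
    obtain ⟨j, hj, hjc⟩ := Groth.L26.GaSub.exists_ga U hns htriv
    haveI := hj; haveI := hjc
    refine hG (j ≫ u ≫ l) inferInstance ?_
    show IsClosedImmersion (j.left ≫ u.left ≫ l.left)
    infer_instance
  exact ⟨L, gL, l, A, gA, α, hl', hlc, hT, hα, hαs, hαf, hker, hAp, hAs, hAc⟩

theorem quasiCompact_of_connected (G : Over (Spec (CommRingCat.of k))) [GrpObj G] [Smooth G.hom]
    [ConnectedSpace ↥G.left] : QuasiCompact G.hom := by
  refine Groth.L08.ActSep.quasiCompact_of_connected fun s => ?_
  have e : G.hom ⁻¹' {s} = Set.univ :=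
    Set.eq_univ_of_forall fun x => Subsingleton.elim (α := PrimeSpectrum k) _ _
  rw [e]
  exact isConnected_univ

/-- A smooth connected commutative group of unipotent rank zero is semiabelian. -/
theorem isSemiab_of_fibres (G : Over (Spec (CommRingCat.of k))) [GrpObj G] [IsCommMonObj G] [Smooth G.hom]
    [QuasiCompact G.hom] [ConnectedSpace ↥G.left] (hG : SGA7.FibresUnipotentRankZero G) :
    Groth.L19.SpecSub.IsSemiab G := by
  haveI := Groth.L19.SpecSub.smooth_gbc G
  haveI := Groth.L19.SpecSub.qc_gbc G
  haveI : ConnectedSpace ↥(Groth.L19.SpecSub.gbc G).left := Groth.L08.ChevPerf.connectedSpace_bc G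
  exact Groth.Agent.S14592.result k G (isSemiab_alg (Groth.L19.SpecSub.gbc G) (noGa_gbc G hG))

end Groth.L16.SerreLemma
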